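import Mathlib
import Groth.Agent.GenLocus.Ops
import Groth.Agent.TensorMod.Basic

/-! Stable base loci. -/

set_option autoImplicit false
set_option backward.isDefEq.respectTransparency false

noncomputable section

universe u

open CategoryTheory AlgebraicGeometry TopologicalSpace

namespace Groth.Agent.StableBaseLib

variable {X : Scheme.{u}}

/-- the base locus of the `m`-th power -/
abbrev Bs (L : X.Modules) (m : ℕ) : Set X :=
  {x : X | ∀ s : Coh.structureModule X ⟶ CohB1.tensorPow L m, x ∉ CohB1.genLocus (CohB1.tensorPow L m) s}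

/-- the stable base locus -/
abbrev SBs (L : X.Modules) : Set X :=
  {x : X | ∀ m : ℕ, 0 < m → ∀ s : Coh.structureModule X ⟶ CohB1.tensorPow L m, x ∉ CohB1.genLocus (CohB1.tensorPow L m) s}

variable {L : X.Modules} (hL : PicF.IsInvertible L)

include hL in
theorem bs_mul_subset (m k : ℕ) (hk : 0 < k) : Bs L (m * k) ⊆ Bs L m := by
  intro x hx s hs
  obtain ⟨k, rfl⟩ := Nat.exists_eq_succ_of_ne_zero hk.ne'
  apply hx (SecTwist.powHom s (k + 1) ≫ (TensorMod.tensorPowMulIso L m (k + 1)).hom)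
  rw [GenLocus.genLocus_comp_iso]
  exact (SetLike.ext_iff.1 (GenLocus.genLocus_powHom (TensorMod.isInvertible_tensorPow hL m) s k) x).2 hs

theorem sBs_subset {m : ℕ} (hm : 0 < m) : SBs L ⊆ Bs L m := fun _ hx => hx m hm

include hL in
theorem bs_subset_of_dvd {m M : ℕ} (hM : 0 < M) (h : m ∣ M) : Bs L M ⊆ Bs L m := by
  obtain ⟨c, rfl⟩ := h
  exact bs_mul_subset hL m c (pos_of_mul_pos_right hM (Nat.zero_le _))

include hL in
theorem exists_bs_eq [NoetherianSpace X] :
    ∃ n : ℕ, 0 < n ∧ ∀ M : ℕ, 0 < M → n ∣ M → Bs L M = SBs L := by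
  classical
  let ι := Σ m : ℕ, (Coh.structureModule X ⟶ CohB1.tensorPow L (m + 1))
  let U : ι → X.Opens := fun p => CohB1.genLocus _ p.2
  obtain ⟨t, ht⟩ := (NoetherianSpace.isCompact (⋃ p, (U p : Set X))).elim_finite_subcover
    (fun p => (U p : Set X)) (fun p => (U p).2) subset_rfl
  refine ⟨∏ p ∈ t, (p.1 + 1), Finset.prod_pos fun p _ => Nat.succ_pos _, fun M hM hdvd => ?_⟩
  refine Set.Subset.antisymm (fun x hx m hm s hs => ?_) (sBs_subset hM)
  obtain ⟨m', rfl⟩ := Nat.exists_eq_succ_of_ne_zero hm.ne'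
  have hmem : x ∈ ⋃ p, (U p : Set X) := Set.mem_iUnion.2 ⟨⟨m', s⟩, hs⟩
  obtain ⟨p, hp, hxp⟩ := Set.mem_iUnion₂.1 (ht hmem)
  exact bs_subset_of_dvd hL hM ((Finset.dvd_prod_of_mem (fun q : ι => q.1 + 1) hp).trans hdvd) hx p.2 hxp

include hL in
theorem sBs_pow {p : ℕ} (hp : 0 < p) : SBs (CohB1.tensorPow L p) = SBs L := by
  refine Set.Subset.antisymm (fun x hx m hm s hs => ?_) (fun x hx m hm s hs => ?_)
  · have h : x ∈ Bs L (p * m) := fun c hc => hx m hm (c ≫ (TensorMod.tensorPowMulIso L p m).inv)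
      (by rw [show (TensorMod.tensorPowMulIso L p m).inv = (TensorMod.tensorPowMulIso L p m).symm.hom from rfl,
        GenLocus.genLocus_comp_iso]; exact hc)
    exact bs_subset_of_dvd hL (Nat.mul_pos hp hm) (dvd_mul_left m p) h s hs
  · exact hx (p * m) (Nat.mul_pos hp hm) (s ≫ (TensorMod.tensorPowMulIso L p m).hom)
      (by rw [GenLocus.genLocus_comp_iso]; exact hs)

theorem noetherianSpace_of_proper {X : Scheme.{0}} [X.Over (Spec (CommRingCat.of ℂ))]
    [IsProper (X ↘ Spec (CommRingCat.of ℂ))] : NoetherianSpace X := by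
  haveI : IsLocallyNoetherian X := LocallyOfFiniteType.isLocallyNoetherian (X ↘ Spec (CommRingCat.of ℂ))
  haveI : CompactSpace X := QuasiCompact.compactSpace_of_compactSpace (X ↘ Spec (CommRingCat.of ℂ))
  haveI : AlgebraicGeometry.IsNoetherian X := {}
  infer_instance

end Groth.Agent.StableBaseLib
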